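import Mathlib
import Cfsg.Agent.Lib.Helper93.M11U.Defs

set_option autoImplicit false

/-!
# S0420, package [FIXDIM]: character sums over subgroups are dimensions of fixed spaces
-/

namespace Cfsg.Agent.Lib.Helper43.M11U

open Cfsg.Agent.Lib.Helper93.M11U

universe u

/-- the fixed space of the subgroup `H` in the representation `ρ` -/
noncomputable def fixSp {G : Type u} [Group G] {V : Type} [AddCommGroup V] [Module ℂ V]
    (ρ : Representation ℂ G V) (H : Subgroup G) : Submodule ℂ V :=
  Representation.invariants (ρ.comp H.subtype)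

theorem mem_fixSp {G : Type u} [Group G] {V : Type} [AddCommGroup V] [Module ℂ V]
    (ρ : Representation ℂ G V) (H : Subgroup G) (v : V) :
    v ∈ fixSp ρ H ↔ ∀ h ∈ H, ρ h v = v := by
  unfold fixSp
  rw [Representation.mem_invariants]
  constructor
  · intro h g hg
    exact h ⟨g, hg⟩
  · intro h g
    exact h g.1 g.2

theorem fixSp_anti {G : Type u} [Group G] {V : Type} [AddCommGroup V] [Module ℂ V]
    (ρ : Representation ℂ G V) {H H' : Subgroup G} (hle : H ≤ H') :
    fixSp ρ H' ≤ fixSp ρ H := by
  intro v hv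
  rw [mem_fixSp] at hv ⊢
  exact fun h hh => hv h (hle hh)

/-- the character sum over `H` is `|H|` times the dimension of the fixed space of `H` -/
theorem sumOn_character {G : Type u} [Group G] [Finite G] {V : Type} [AddCommGroup V]
    [Module ℂ V] [FiniteDimensional ℂ V] (ρ : Representation ℂ G V) (H : Subgroup G) :
    sumOn ρ.character H = (Nat.card H : ℂ) * (Module.finrank ℂ (fixSp ρ H) : ℂ) := by
  classical
  letI : Fintype H := Fintype.ofFinite H
  have hne : (Nat.card H : ℂ) ≠ 0 := by exact_mod_cast Nat.card_pos.ne'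
  letI : Invertible (Nat.card H : ℂ) := invertibleOfNonzero hne
  have h := Representation.card_inv_mul_sum_char_eq_finrank (ρ.comp H.subtype)
  unfold sumOn
  rw [finsum_eq_sum_of_fintype]
  unfold fixSp
  rw [← h, ← mul_assoc, mul_inv_cancel₀ hne, one_mul]
  rfl

theorem pkgFixDim : PkgFixDim.{u} := by
  intro G _ _ χ hχ
  obtain ⟨n, ρ, rfl⟩ := hχ
  refine ⟨fun H => Module.finrank ℂ (fixSp ρ H), fun H => sumOn_character ρ H, ?_⟩
  intro H H' hle
  exact Submodule.finrank_mono (fixSp_anti ρ hle)

end Cfsg.Agent.Lib.Helper43.M11U
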