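import Mathlib
import Cfsg.Agent.Lib.Helper93.M11U.Defs
import Cfsg.Agent.Lib.Helper43.M11U.FixDim

set_option autoImplicit false

/-!
# S0420, package [STAB]: the stabilizer of a common fixed vector
-/

namespace Cfsg.Agent.Lib.Helper43.M11U

open Cfsg.Agent.Lib.Helper93.M11U

universe u

/-- the stabilizer of a vector in a representation -/
def vecStab {G : Type u} [Group G] {V : Type} [AddCommGroup V] [Module ℂ V]
    (ρ : Representation ℂ G V) (v : V) : Subgroup G where
  carrier := {g | ρ g v = v}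
  mul_mem' := by
    intro a b ha hb
    simp only [Set.mem_setOf_eq] at ha hb ⊢
    rw [map_mul, Module.End.mul_apply, hb, ha]
  one_mem' := by simp
  inv_mem' := by
    intro a ha
    simp only [Set.mem_setOf_eq] at ha ⊢
    have h : ρ a⁻¹ (ρ a v) = v := by
      rw [← Module.End.mul_apply, ← map_mul, inv_mul_cancel, map_one, Module.End.one_apply]
    rw [ha] at h
    exact h

theorem mem_vecStab {G : Type u} [Group G] {V : Type} [AddCommGroup V] [Module ℂ V]
    (ρ : Representation ℂ G V) (v : V) (g : G) : g ∈ vecStab ρ v ↔ ρ g v = v := Iff.rfl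

theorem pkgStab : PkgStab.{u} := by
  intro G _ _ χ hχ h1 F H₁ H₂ hF1 hF2 hsum hH1
  obtain ⟨n, ρ, hirr, rfl⟩ := hχ
  have hcF := sumOn_character ρ F
  have hc1 := sumOn_character ρ H₁
  have hc2 := sumOn_character ρ H₂
  have hFne : (Nat.card F : ℂ) ≠ 0 := by exact_mod_cast Nat.card_pos.ne'
  have h2ne : (Nat.card H₂ : ℂ) ≠ 0 := by exact_mod_cast Nat.card_pos.ne'
  have hd : Module.finrank ℂ (fixSp ρ F) = Module.finrank ℂ (fixSp ρ H₂) := by
    rw [hcF, hc2] at hsum
    have h3 : (Nat.card F : ℂ) * (Nat.card H₂ : ℂ) * (Module.finrank ℂ (fixSp ρ F) : ℂ)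
        = (Nat.card F : ℂ) * (Nat.card H₂ : ℂ) * (Module.finrank ℂ (fixSp ρ H₂) : ℂ) := by
      linear_combination hsum
    have h4 := mul_left_cancel₀ (mul_ne_zero hFne h2ne) h3
    exact_mod_cast h4
  have heq : fixSp ρ H₂ = fixSp ρ F :=
    Submodule.eq_of_le_of_finrank_eq (fixSp_anti ρ hF2) hd.symm
  have hd1 : Module.finrank ℂ (fixSp ρ H₁) ≠ 0 := by
    intro h0
    apply hH1
    rw [hc1, h0]
    simp
  obtain ⟨⟨v, hv⟩, hv0⟩ := Module.finrank_pos_iff_exists_ne_zero.mp (Nat.pos_of_ne_zero hd1)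
  have hv0' : v ≠ 0 := fun h => hv0 (Subtype.ext h)
  have hv2 : v ∈ fixSp ρ H₂ := by
    rw [heq]
    exact fixSp_anti ρ hF1 hv
  refine ⟨vecStab ρ v, ?_, ?_, ?_, ?_⟩
  · intro h hh
    exact (mem_fixSp ρ H₁ v).mp hv h hh
  · intro h hh
    exact (mem_fixSp ρ H₂ v).mp hv2 h hh
  · intro htop
    have hfix : ∀ g : G, ρ g v = v := by
      intro g
      have : g ∈ vecStab ρ v := by rw [htop]; exact Subgroup.mem_top g
      exact this
    let S : Subrepresentation ρ := ⟨Submodule.span ℂ {v}, by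
      intro g w hw
      rw [Submodule.mem_span_singleton] at hw ⊢
      obtain ⟨c, rfl⟩ := hw
      exact ⟨c, by rw [map_smul, hfix g]⟩⟩
    haveI := hirr
    rcases eq_bot_or_eq_top S with hS | hS
    · have hvS : v ∈ S.toSubmodule := Submodule.mem_span_singleton_self v
      rw [hS] at hvS
      have hvS' : v ∈ (⊥ : Submodule ℂ (Fin n → ℂ)) := hvS
      exact hv0' ((Submodule.mem_bot ℂ).mp hvS')
    · have hSt : Submodule.span ℂ {v} = (⊤ : Submodule ℂ (Fin n → ℂ)) := by
        have := congrArg Subrepresentation.toSubmodule hS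
        exact this
      have hfr : Module.finrank ℂ (Fin n → ℂ) = 1 := by
        rw [← finrank_top ℂ (Fin n → ℂ), ← hSt]
        exact finrank_span_singleton hv0'
      apply h1
      rw [Representation.char_one, hfr]
      simp
  · rw [sumOn_character]
    have hvM : v ∈ fixSp ρ (vecStab ρ v) := by
      rw [mem_fixSp]
      intro h hh
      exact hh
    have hpos : 0 < Module.finrank ℂ (fixSp ρ (vecStab ρ v)) :=
      Module.finrank_pos_iff_exists_ne_zero.mpr ⟨⟨v, hvM⟩, fun h => hv0' (congrArg Subtype.val h)⟩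
    have hMne : (Nat.card (vecStab ρ v) : ℂ) ≠ 0 := by exact_mod_cast Nat.card_pos.ne'
    exact mul_ne_zero hMne (by exact_mod_cast hpos.ne')

end Cfsg.Agent.Lib.Helper43.M11U
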